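import Mathlib
import Cfsg.Agent.Lib.LieModel.Fields
import Cfsg.Agent.Lib.LieModel.L34.P.Main
import Cfsg.Agent.Lib.Mathieu.L34

/-! `Matrix.ProjectiveSpecialLinearGroup (Fin 3) F` as a permutation group on 21 points (generated) -/

set_option autoImplicit false
set_option maxRecDepth 100000
set_option Elab.async false

namespace CfsgLib.LieModel.L34

open CfsgLib.Comput CfsgLib.Classical CfsgLib.Recog Matrix

/-- the coding of vectors -/
abbrev C : Cd GF4 (Fin 3) := cd4 3 (finIdx 3)

theorem good : C.Good := cd4_good ⟨by decide +kernel, by decide +kernel⟩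

/-- the table of points -/
noncomputable def T : ℕ := 0x1f79d71b699617595513491407185101

theorem inj : ProjInj 21 (C.pt T) := Cd.projInj good (allLt_sound (by decide +kernel))

/-- the scalars -/
noncomputable def LS : List (List ℕ) := [[0x1000000000000000000000001, 0x1000000000000000000010000, 0x1000000000000000100000000, 0x1000000000001000000000000, 0x1000000010000000000000000, 0x1000100000000000000000000], [0x1000000000000000000010000, 0x2000000000000000000010001, 0x1000000000001000000000000, 0x2000000000001000100000000, 0x1000100000000000000000000, 0x2000100010000000000000000], [0x2000000000000000000010001, 0x1000000000000000000000001, 0x2000000000001000100000000, 0x1000000000000000100000000, 0x2000100010000000000000000, 0x1000000010000000000000000]]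

theorem scal : C.Scal LS :=
  Cd.Scal.cons (c := C.fK 1) ((Cd.codes_of_entries good (M := [0x1, 0x2, 0x4, 0x8, 0x10, 0x20]) (by decide +kernel)).cols (by decide +kernel)) (
  Cd.Scal.cons (c := C.fK 2) ((Cd.codes_of_entries good (M := [0x2, 0x3, 0x8, 0xc, 0x20, 0x30]) (by decide +kernel)).cols (by decide +kernel)) (
  Cd.Scal.cons (c := C.fK 3) ((Cd.codes_of_entries good (M := [0x3, 0x1, 0xc, 0x4, 0x30, 0x10]) (by decide +kernel)).cols (by decide +kernel)) (
  Cd.Scal.nil)))

noncomputable def A0 : Matrix (Fin 3) (Fin 3) GF4 := C.mat Fin.val [0x1b, 0x2b, 0x3c]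
noncomputable def g0 : SpecialLinearGroup (Fin 3) GF4 := ⟨A0, by rw [det_fin_three]; decide +kernel⟩

theorem c0 : Compat (C.pt T) A0 (permG 21 P.W 0) :=
  Cd.compat good (OK_nth P.W_ok 0) (L := [0x4000000010001000000010001, 0x4000100000001000100000001, 0x4000100000001000000010001, 0x5000100010001000100000001, 0x4000100010001000100000000, 0x2000000010000000100000000])
    ((Cd.codes_of_entries good (M := [0x1b, 0x2d, 0x2b, 0x3d, 0x3c, 0x14]) (by decide +kernel)).cols (by decide +kernel)) scal (allLt_sound (by decide +kernel))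

noncomputable def A1 : Matrix (Fin 3) (Fin 3) GF4 := C.mat Fin.val [0xa, 0x2a, 0x12]
noncomputable def g1 : SpecialLinearGroup (Fin 3) GF4 := ⟨A1, by rw [det_fin_three]; decide +kernel⟩

theorem c1 : Compat (C.pt T) A1 (permG 21 P.W 2) :=
  Cd.compat good (OK_nth P.W_ok 2) (L := [0x2000000000001000000010000, 0x4000000000001000100010001, 0x3000100000001000000010000, 0x6000100010001000100010001, 0x2000000010000000000010000, 0x3000100000000000000010001])
    ((Cd.codes_of_entries good (M := [0xa, 0xf, 0x2a, 0x3f, 0x12, 0x23]) (by decide +kernel)).cols (by decide +kernel)) scal (allLt_sound (by decide +kernel))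

/-- the generators -/
noncomputable def g (m : ℕ) : SpecialLinearGroup (Fin 3) GF4 :=
  if m = 0 then g0 else g1

theorem hyp : ∀ m ∈ [0, 2], m < 255 ∧ Compat (C.pt T) ((SpecialLinearGroup.coeMonoidHom : SpecialLinearGroup (Fin 3) GF4 →* _) (g m)) (permG 21 P.W m) := by
  simp only [List.forall_mem_cons]
  exact ⟨⟨by norm_num, c0⟩, ⟨by norm_num, c1⟩, List.forall_mem_nil _⟩

/-- the permutation group -/
noncomputable abbrev PG : Subgroup (Equiv.Perm (Fin 21)) := cl (permG 21 P.W) P.top

theorem card_PG : Nat.card PG = 20160 := P.card_perm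

theorem card_G : Nat.card (Matrix.ProjectiveSpecialLinearGroup (Fin 3) GF4) = 20160 := CfsgLib.Mathieu.card_psl3_of_card card_GF4

theorem center_PG : Subgroup.center PG = ⊥ :=
  center_eq_bot_of_chk P.W_ok (by norm_num) (P.inA_top P.E) (hs := P.L0.hs) (a := 0) (r := 4) (by decide +kernel)

theorem exists_iso : ∃ e : (Matrix.ProjectiveSpecialLinearGroup (Fin 3) GF4) ≃* PG, ∀ x ∈ cl (fun m => (g m, permG 21 P.W m)) P.top,
    (e (QuotientGroup.mk x.1) : Equiv.Perm (Fin 21)) = x.2 := by
  have : Finite (Matrix.ProjectiveSpecialLinearGroup (Fin 3) GF4) := Nat.finite_of_card_ne_zero (by rw [card_G]; norm_num)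
  exact link_quot ((SpecialLinearGroup.coeMonoidHom : SpecialLinearGroup (Fin 3) GF4 →* _)) inj hyp rfl center_PG (card_G.trans card_PG.symm).le

theorem iso {F : Type*} [Field F] [Fintype F] (hF : Fintype.card F = 4) :
    Nonempty ((Matrix.ProjectiveSpecialLinearGroup (Fin 3) F) ≃* PG) := by
  obtain ⟨f, -⟩ := exists_iso
  let e : F ≃+* GF4 := FiniteField.ringEquivOfCardEq (hF.trans (card_GF4).symm)
  exact ⟨(pslMapEquiv e).trans f⟩

end CfsgLib.LieModel.L34
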